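import Cfsg.Agent.Lib.SelfDualEven.Anti
import Mathlib.LinearAlgebra.Matrix.DotProduct

/-!
# The trace of a self-adjoint corner in characteristic two

For an idempotent `e` fixed by inversion followed by conjugation with an involution `t`, the trace
of `x ↦ e x e` is the square of the coefficient of `1` in the square of `e S e`, where `S` is the sum
of the centralizer of `t`.  The Schur relations make `e S e` vanish on a self-dual simple module.
-/

set_option autoImplicit false
set_option linter.unusedSectionVars false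

namespace CfsgLib.SelfDualEven

open Finset
open Matrix hiding single inv_inj mul_inv_rev
open MonoidAlgebra (single)

variable {k G : Type*} [Field k] [CharP k 2] [Group G] [Fintype G]

/-- A sum over an involution only sees the fixed points. -/
theorem sum_eq_sum_fix {ι : Type*} [Fintype ι] [DecidableEq ι] (τ : ι → ι) (hτ : ∀ i, τ (τ i) = i)
    (F : ι → k) (hF : ∀ i, F (τ i) = F i) : ∑ i, F i = ∑ i ∈ univ.filter (fun i => τ i = i), F i := by
  rw [← Finset.sum_filter_add_sum_filter_not univ (fun i => τ i = i)]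
  refine add_eq_left.2 (Finset.sum_involution (fun i _ => τ i) (fun i _ => ?_) (fun i hi _ => ?_)
    (fun i hi => ?_) fun i _ => hτ i)
  · rw [hF, CharTwo.add_self_eq_zero]
  · exact (Finset.mem_filter.1 hi).2
  · exact Finset.mem_filter.2 ⟨mem_univ _, fun h => (Finset.mem_filter.1 hi).2 (by
      rw [hτ] at h
      exact h.symm)⟩

variable [DecidableEq G]

/-- the sum of the centralizer of `t` -/
noncomputable def censum (t : G) : MonoidAlgebra k G :=
  ∑ g ∈ univ.filter (fun g => t * g * t = g), single g 1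

theorem ct_inv {t : G} (ht : t * t = 1) {g : G} : t * g⁻¹ * t = g⁻¹ ↔ t * g * t = g := by
  have ht' : t⁻¹ = t := inv_eq_of_mul_eq_one_left ht
  rw [← inv_inj, mul_inv_rev, mul_inv_rev, inv_inv, ht', ← mul_assoc]

theorem conj_conj {t : G} (ht : t * t = 1) (g : G) : t * (t * g * t) * t = g := by
  rw [← mul_assoc, ← mul_assoc, ht, one_mul, mul_assoc, ht, mul_one]

theorem coeff_mul_censum {t : G} (ht : t * t = 1) (x : MonoidAlgebra k G) :
    (x * censum t).coeff 1 = ∑ g ∈ univ.filter (fun g => t * g * t = g), x.coeff g := by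
  have h : (x * censum t).coeff 1 = ∑ g ∈ univ.filter (fun g => t * g * t = g), x.coeff g⁻¹ := by
    simp [censum, mul_sum, MonoidAlgebra.coeff_sum]
  rw [h]
  exact Finset.sum_bij' (fun g _ => g⁻¹) (fun g _ => g⁻¹) (by simp [ct_inv ht]) (by simp [ct_inv ht])
    (by simp) (by simp) (by simp)

/-- The trace of a self-adjoint corner. -/
theorem corner_trace {t : G} (ht : t * t = 1) {e : MonoidAlgebra k G} (he : e * e = e)
    (hσ : sig t e = e) :
    ∑ g : G, (e * single g 1 * e).coeff g
      = ((e * censum t * e) * (e * censum t * e)).coeff 1 ^ 2 := by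
  have ht' : t⁻¹ = t := inv_eq_of_mul_eq_one_left ht
  let φ : G → G → k := fun g h => (e * single g 1 * e).coeff (t * h * t)
  have hsingle : ∀ g : G, sig t (single g (1 : k)) = single (t * g⁻¹ * t) 1 := fun g => by
    simp [sig, anti_single, MonoidAlgebra.single_mul_single]
  have hcoef : ∀ (x : MonoidAlgebra k G) (w : G), x.coeff w = (x * single w⁻¹ 1).coeff 1 := by
    intro x w; simp
  have hcyc : ∀ a b : MonoidAlgebra k G, (e * a * e * b).coeff 1 = (e * b * e * a).coeff 1 := by
    intro a b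
    calc (e * a * e * b).coeff 1 = ((e * a) * (e * b)).coeff 1 := by simp only [mul_assoc]
      _ = ((e * b) * (e * a)).coeff 1 := coeff_one_mul_comm _ _
      _ = _ := by simp only [mul_assoc]
  have hsym : ∀ g h, φ g h = φ h g := fun g h => by
    have h1 : φ g h = (e * single (t * g⁻¹ * t) 1 * e).coeff h⁻¹ := by
      have := coeff_sig ht (e * single g (1 : k) * e) h⁻¹
      rw [sig_mul ht, sig_mul ht, hσ, hsingle, inv_inv, ← mul_assoc] at this
      exact this.symm
    rw [h1, hcoef, inv_inv, hcyc]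
    show _ = (e * single h 1 * e).coeff (t * g * t)
    rw [hcoef _ (t * g * t), mul_inv_rev, mul_inv_rev, ht', ← mul_assoc]
  have hsq : ∀ g, φ g g = (∑ w ∈ univ.filter (fun w => t * w * t = w),
      (e * single g (1 : k) * e).coeff w) ^ 2 := fun g => by
    set x := e * single g (1 : k) * e with hx
    have h1 : φ g g = (x * sig t x).coeff 1 := by
      rw [show φ g g = x.coeff (t * g * t) from rfl, hcoef, hx, sig_mul ht, sig_mul ht, hσ, hsingle]
      have hh : (t * g * t)⁻¹ = t * g⁻¹ * t := by rw [mul_inv_rev, mul_inv_rev, ht', ← mul_assoc]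
      rw [hh]
      generalize single (t * g⁻¹ * t) (1 : k) = y
      generalize single g (1 : k) = a
      symm
      calc ((e * a * e) * (e * (y * e))).coeff 1 = (e * a * (e * e) * y * e).coeff 1 := by
            simp only [mul_assoc]
        _ = (e * (e * a * (e * e) * y)).coeff 1 := coeff_one_mul_comm _ _
        _ = ((e * e) * a * (e * e) * y).coeff 1 := by simp only [mul_assoc]
        _ = _ := by rw [he]
    have h2 : (x * sig t x).coeff 1 = ∑ w, x.coeff w * x.coeff (t * w * t) := by
      have h := coeff_mul_sum x (sig t x) (fun w => if w = 1 then (1 : k) else 0)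
      simp only [mul_ite, mul_one, mul_zero, sum_ite_eq', mem_univ, if_true] at h
      rw [h]
      refine Finset.sum_congr rfl fun a _ => ?_
      rw [Finset.sum_eq_single a⁻¹ (fun b _ hb => if_neg fun h => hb (inv_eq_of_mul_eq_one_right h).symm)
        (by simp), if_pos (mul_inv_cancel a), coeff_sig ht, inv_inv]
    rw [h1, h2, sum_pow_char 2, sum_eq_sum_fix (fun w => t * w * t) (conj_conj ht) _
      fun w => by rw [conj_conj ht, mul_comm]]
    exact Finset.sum_congr rfl fun w hw => by rw [(Finset.mem_filter.1 hw).2, pow_two]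
  have h0 : ∑ g : G, (e * single g 1 * e).coeff g = ∑ g, φ g (t * g * t) :=
    Finset.sum_congr rfl fun g _ => by simp only [φ, conj_conj ht]
  rw [h0, sum_eq_sum_fix (fun g => t * g * t) (conj_conj ht) _ fun g => by
    rw [conj_conj ht]; exact hsym _ _]
  rw [Finset.sum_congr rfl (g := fun g => φ g g) fun g hg => by rw [(Finset.mem_filter.1 hg).2]]
  rw [Finset.sum_congr rfl fun g _ => hsq g, ← sum_pow_char 2]
  congr 1
  have h3 : (e * censum t * e * (e * censum t * e)).coeff 1 = (e * censum t * e * censum t).coeff 1 := by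
    generalize (censum t : MonoidAlgebra k G) = S
    calc (e * S * e * (e * S * e)).coeff 1 = ((e * S * (e * e) * S) * e).coeff 1 := by
          simp only [mul_assoc]
      _ = (e * (e * S * (e * e) * S)).coeff 1 := coeff_one_mul_comm _ _
      _ = ((e * e) * S * (e * e) * S).coeff 1 := by simp only [mul_assoc]
      _ = _ := by rw [he]
  rw [h3, coeff_mul_censum ht, Finset.sum_comm]
  refine Finset.sum_congr rfl fun w _ => ?_
  simp only [censum, mul_sum, sum_mul, MonoidAlgebra.coeff_sum, Finsupp.finsetSum_apply]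

/-- The corner trace vanishes when `e S e` is nilpotent. -/
theorem corner_trace_eq_zero {n : ℕ} (hn : Odd n) (hexp : ∀ g : G, g ^ (2 * n) = 1)
    {t : G} (ht : t * t = 1) {e : MonoidAlgebra k G} (he : e * e = e) (hσ : sig t e = e)
    (hu : IsNilpotent (e * censum t * e)) : ∑ g : G, (e * single g 1 * e).coeff g = 0 := by
  rw [corner_trace ht he hσ, coeff_one_sq hn hexp hu, zero_pow two_ne_zero]

section Schur

variable {d : Type*} [Fintype d] [DecidableEq d]

/-- The Schur relations kill the centralizer sum on a symmetric matrix coefficient. -/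
theorem dot_censum_eq_zero (ρ : G →* Matrix d d k) (B : Matrix d d k) (hB : Bᵀ = B)
    (hinv : ∀ g, (ρ g)ᵀ * B * ρ g = B) {t : G} (ht : t * t = 1) (v : d → k)
    (hS : ∀ X : Matrix d d k, ∑ g, ρ g * X * ρ g⁻¹ = 0) :
    (v ᵥ* (B * ρ t)) ⬝ᵥ ((∑ g ∈ univ.filter (fun g => t * g * t = g), ρ g) *ᵥ v) = 0 := by
  have ht' : t⁻¹ = t := inv_eq_of_mul_eq_one_left ht
  let f : G → k := fun g => (v ᵥ* B) ⬝ᵥ (ρ g *ᵥ v)
  have hfi : ∀ g, f g⁻¹ = f g := fun g => by
    have h1 : B * ρ g⁻¹ = (ρ g)ᵀ * B := by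
      conv_lhs => rw [← hinv g]
      rw [mul_assoc, ← map_mul, mul_inv_cancel, map_one, mul_one]
    show (v ᵥ* B) ⬝ᵥ (ρ g⁻¹ *ᵥ v) = (v ᵥ* B) ⬝ᵥ (ρ g *ᵥ v)
    rw [dotProduct_mulVec, vecMul_vecMul, h1, ← dotProduct_mulVec, ← Matrix.mulVec_mulVec,
      dotProduct_mulVec, vecMul_transpose, dotProduct_comm]
    congr 1
    rw [← Matrix.mulVec_transpose, hB]
  have hsum : ∀ g, (v ᵥ* (B * ρ t)) ⬝ᵥ (ρ g *ᵥ v) = f (t * g) := fun g => by
    show _ = (v ᵥ* B) ⬝ᵥ (ρ (t * g) *ᵥ v)
    rw [map_mul, ← Matrix.mulVec_mulVec, ← vecMul_vecMul, ← dotProduct_mulVec]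
  rw [Matrix.sum_mulVec, dotProduct_sum]
  simp only [hsum]
  rw [Finset.sum_bij' (fun g _ => t * g) (fun g _ => t * g) (t := univ.filter fun g => t * g * t = g)
    (g := f) ?_ ?_ ?_ ?_ fun g _ => rfl]
  · have h := congrArg (fun M => (v ᵥ* B) ⬝ᵥ (M *ᵥ (ρ t *ᵥ v)))
      (hS (vecMulVec v (v ᵥ* (B * ρ t))))
    simp only [Matrix.sum_mulVec, dotProduct_sum, Matrix.zero_mulVec, dotProduct_zero] at h
    have h1 : ∀ g, (v ᵥ* B) ⬝ᵥ ((ρ g * vecMulVec v (v ᵥ* (B * ρ t)) * ρ g⁻¹) *ᵥ (ρ t *ᵥ v))
        = f g * f (t * g * t) := fun g => by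
      rw [← Matrix.mulVec_mulVec, ← Matrix.mulVec_mulVec, vecMulVec_mulVec, Matrix.mulVec_smul,
        dotProduct_smul, op_smul_eq_smul, smul_eq_mul, mul_comm]
      congr 1
      rw [← hfi (t * g * t), mul_inv_rev, mul_inv_rev, ht', ← mul_assoc]
      show _ = (v ᵥ* B) ⬝ᵥ (ρ (t * g⁻¹ * t) *ᵥ v)
      rw [map_mul, map_mul, ← Matrix.mulVec_mulVec, ← Matrix.mulVec_mulVec, ← vecMul_vecMul,
        ← dotProduct_mulVec]
    simp only [h1] at h
    rw [sum_eq_sum_fix (fun g => t * g * t) (conj_conj ht) _ fun g => by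
      rw [conj_conj ht, mul_comm]] at h
    rw [Finset.sum_congr rfl (g := fun g => f g ^ 2) fun g hg => by
      rw [(Finset.mem_filter.1 hg).2, pow_two], ← sum_pow_char 2] at h
    exact pow_eq_zero_iff two_ne_zero |>.1 h
  all_goals intro g hg
  all_goals simp only [Finset.mem_filter, Finset.mem_univ, true_and] at hg ⊢
  · rw [← mul_assoc, ht, one_mul]
    conv_rhs => rw [← hg]
    rw [mul_assoc t g t, ← mul_assoc t t, ht, one_mul]
  · rw [← mul_assoc, ht, one_mul]
    conv_rhs => rw [← hg]
    rw [mul_assoc t g t, ← mul_assoc t t, ht, one_mul]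
  · rw [← mul_assoc, ht, one_mul]
  · rw [← mul_assoc, ht, one_mul]

end Schur

end CfsgLib.SelfDualEven
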