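import Mathlib.Algebra.MonoidAlgebra.Basic
import Mathlib.GroupTheory.OrderOfElement
import Mathlib.GroupTheory.Sylow
import Mathlib.Algebra.CharP.Two
import Mathlib.LinearAlgebra.Matrix.Trace
import Mathlib.LinearAlgebra.Matrix.NonsingularInverse
import Mathlib.RingTheory.Nilpotent.Basic
import Mathlib.Algebra.CharP.Lemmas

/-!
# Inversion on a group algebra and coefficient sums of nilpotent elements in characteristic two

For a finite group whose 2-elements have order at most two, the coefficient sum of a nilpotent
element against a class function that is constant on 2-sections vanishes.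
-/

set_option autoImplicit false
set_option linter.unusedSectionVars false
set_option linter.style.haveILetI false

namespace CfsgLib.SelfDualEven

open Finset
open MonoidAlgebra (single)

variable {k G : Type*} [Field k] [Group G]

/-- the antiautomorphism `g ↦ g⁻¹` -/
noncomputable def anti : MonoidAlgebra k G →ₗ[k] MonoidAlgebra k G :=
  MonoidAlgebra.mapDomainLinearMap k k fun g : G => g⁻¹

/-- inversion followed by conjugation by `t` -/
noncomputable def sig (t : G) (x : MonoidAlgebra k G) : MonoidAlgebra k G :=
  single t (1 : k) * anti x * single t (1 : k)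

theorem coeff_anti (x : MonoidAlgebra k G) (g : G) : (anti x).coeff g = x.coeff g⁻¹ := by
  induction x using MonoidAlgebra.induction_linear with
  | zero => simp
  | add x y hx hy => simp [hx, hy]
  | single a r =>
    classical
    simp only [anti, MonoidAlgebra.mapDomainLinearMap_single, MonoidAlgebra.coeff_single,
      Finsupp.single_apply]
    exact if_congr inv_eq_iff_eq_inv rfl rfl

theorem anti_single (a : G) (r : k) : anti (single a r) = single a⁻¹ r := by
  simp [anti]

theorem anti_mul (x y : MonoidAlgebra k G) : anti (x * y) = anti y * anti x := by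
  induction x using MonoidAlgebra.induction_linear with
  | zero => simp
  | add x x' hx hx' => simp [add_mul, mul_add, hx, hx']
  | single a r =>
    induction y using MonoidAlgebra.induction_linear with
    | zero => simp
    | add y y' hy hy' => simp [add_mul, mul_add, hy, hy']
    | single b s => simp [anti_single, mul_comm]

theorem anti_anti (x : MonoidAlgebra k G) : anti (anti x) = x :=
  MonoidAlgebra.ext (Finsupp.ext fun g => by rw [coeff_anti, coeff_anti, inv_inv])

theorem sig_mul {t : G} (ht : t * t = 1) (x y : MonoidAlgebra k G) :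
    sig t (x * y) = sig t y * sig t x := by
  have h : single t (1 : k) * single t (1 : k) = (1 : MonoidAlgebra k G) := by
    rw [MonoidAlgebra.single_mul_single, ht, mul_one]; rfl
  simp only [sig, anti_mul, mul_assoc]
  rw [← mul_assoc (single t (1 : k)) (single t (1 : k)), h, one_mul]

theorem coeff_sig {t : G} (ht : t * t = 1) (x : MonoidAlgebra k G) (g : G) :
    (sig t x).coeff g = x.coeff (t * g⁻¹ * t) := by
  have ht' : t⁻¹ = t := inv_eq_of_mul_eq_one_left ht
  simp only [sig, MonoidAlgebra.coeff_mul_single_apply, MonoidAlgebra.coeff_single_mul_apply,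
    coeff_anti, mul_one, one_mul, ht', mul_inv_rev, inv_inv, mul_assoc]

theorem sig_sig {t : G} (ht : t * t = 1) (x : MonoidAlgebra k G) : sig t (sig t x) = x := by
  have ht' : t⁻¹ = t := inv_eq_of_mul_eq_one_left ht
  refine MonoidAlgebra.ext (Finsupp.ext fun g => ?_)
  rw [coeff_sig ht, coeff_sig ht]
  congr 1
  rw [mul_inv_rev, mul_inv_rev, inv_inv, ht']
  rw [← mul_assoc, ← mul_assoc, ht, one_mul, mul_assoc, ht, mul_one]

theorem coeff_one_mul_comm [Fintype G] (x y : MonoidAlgebra k G) :
    (x * y).coeff 1 = (y * x).coeff 1 := by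
  induction x using MonoidAlgebra.induction_linear with
  | zero => simp
  | add x x' hx hx' => simp [add_mul, mul_add, hx, hx']
  | single a r => simp [mul_comm]

/-! ### Coefficient sums of nilpotent elements -/

section Nilpotent

variable [Fintype G] [CharP k 2]

theorem coeff_mul_sum (x y : MonoidAlgebra k G) (h : G → k) :
    ∑ g, (x * y).coeff g * h g = ∑ a, ∑ b, x.coeff a * y.coeff b * h (a * b) := by
  induction x using MonoidAlgebra.induction_linear with
  | zero => simp
  | add x x' hx hx' =>
    simp only [add_mul, MonoidAlgebra.coeff_add, Finsupp.add_apply, Finset.sum_add_distrib, hx, hx']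
  | single a r =>
    classical
    refine Eq.trans ?_ (Finset.sum_eq_single a
      (fun b _ hb => by simp [MonoidAlgebra.coeff_single, hb]) (by simp)).symm
    refine Finset.sum_bij' (fun g _ => a⁻¹ * g) (fun b _ => a * b) (by simp) (by simp) (by simp)
      (by simp) fun g _ => ?_
    simp [MonoidAlgebra.coeff_single]

/-- A trace functional on a square only sees the squares of the coefficients. -/
theorem sum_sq (x : MonoidAlgebra k G) (h : G → k) (hh : ∀ g a, h (a * g * a⁻¹) = h g) :
    ∑ g, (x * x).coeff g * h g = ∑ a, x.coeff a ^ 2 * h (a * a) := by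
  classical
  rw [coeff_mul_sum, ← Finset.sum_product']
  have hs : ∑ p ∈ (univ ×ˢ univ : Finset (G × G)).filter (fun p => ¬ p.1 = p.2),
      x.coeff p.1 * x.coeff p.2 * h (p.1 * p.2) = 0 := by
    refine Finset.sum_involution (fun p _ => (p.2, p.1)) (fun p _ => ?_) (fun p hp _ e => ?_)
      (fun p hp => ?_) (fun p _ => rfl)
    · rw [show h (p.2 * p.1) = h (p.1 * p.2) by
        rw [← hh (p.1 * p.2) p.2]; congr 1; group, mul_comm (x.coeff p.2), CharTwo.add_self_eq_zero]
    · exact (Finset.mem_filter.1 hp).2 (congrArg Prod.snd e)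
    · simp only [Finset.mem_filter, Finset.mem_product, Finset.mem_univ, and_self, true_and] at hp ⊢
      exact Ne.symm hp
  rw [← Finset.sum_filter_add_sum_filter_not _ (fun p : G × G => p.1 = p.2), hs, add_zero]
  refine Finset.sum_bij' (fun p _ => p.1) (fun a _ => (a, a)) (by simp) (by simp)
    (fun p hp => Prod.ext rfl (Finset.mem_filter.1 hp).2) (by simp) fun p hp => ?_
  rw [← (Finset.mem_filter.1 hp).2, pow_two]

/-- the odd part of an element, for an exponent with `g ^ (2 * n) = 1` -/
def rp (n : ℕ) (g : G) : G := g ^ (n + 1)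

variable (n : ℕ)

theorem rp_conj (g a : G) : rp n (a * g * a⁻¹) = a * rp n g * a⁻¹ := conj_pow

/-- A coefficient sum of a nilpotent element against a sectional class function vanishes. -/
theorem sum_nilpotent {n : ℕ} (hn : Odd n) {x : MonoidAlgebra k G} (hx : IsNilpotent x)
    (F : G → k) (hF : ∀ g a, F (a * g * a⁻¹) = F g) (hF' : ∀ g, F (rp n g) = F g) :
    ∑ g, x.coeff g * F g = 0 := by
  obtain ⟨N, hN⟩ := hx
  obtain ⟨j, hj⟩ := hn
  have key : ∀ N : ℕ, ∀ x : MonoidAlgebra k G, x ^ 2 ^ N = 0 → ∀ F : G → k,
      (∀ g a, F (a * g * a⁻¹) = F g) → (∀ g, F (rp n g) = F g) → ∑ g, x.coeff g * F g = 0 := by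
    intro N
    induction N with
    | zero =>
      intro x hx F _ _
      rw [pow_zero, pow_one] at hx
      simp [hx]
    | succ N ih =>
      intro x hx F hF hF'
      have h0 : (∑ g, x.coeff g * F g) ^ 2 = 0 := by
        rw [sum_pow_char 2]
        have hF2 : ∀ g, F ((g * g) ^ (j + 1)) = F g := fun g => by
          rw [← pow_two, ← pow_mul, show 2 * (j + 1) = n + 1 by omega]
          exact hF' g
        have h1 := sum_sq x (fun g => F (g ^ (j + 1)) ^ 2) fun g a => by
          rw [conj_pow, hF]
        have h2 := ih (x * x) (by rw [← pow_two, ← pow_mul, ← pow_succ']; exact hx)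
          (fun g => F (g ^ (j + 1)) ^ 2) (fun g a => by rw [conj_pow, hF]) fun g => by
            show F ((rp n g) ^ (j + 1)) ^ 2 = _
            rw [show (rp n g) ^ (j + 1) = rp n (g ^ (j + 1)) by
              simp only [rp, ← pow_mul]; rw [mul_comm], hF']
        rw [h1] at h2
        simpa [mul_pow, hF2] using h2
      exact pow_eq_zero_iff two_ne_zero |>.1 h0
  refine key N x ?_ F hF hF'
  exact pow_eq_zero_of_le (Nat.lt_two_pow_self).le hN

/-- Exponents: the odd part of the group order. -/
theorem exists_exp (hexp : ∀ g : G, (∃ a : ℕ, g ^ 2 ^ a = 1) → g * g = 1) :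
    ∃ n : ℕ, Odd n ∧ ∀ g : G, g ^ (2 * n) = 1 := by
  obtain ⟨a, n, hn, hN⟩ := Nat.exists_eq_two_pow_mul_odd (Nat.card_pos (α := G)).ne'
  refine ⟨n, hn, fun g => ?_⟩
  have h := hexp (g ^ n) ⟨a, by rw [← pow_mul, mul_comm, ← hN]; exact pow_card_eq_one'⟩
  rw [mul_comm, pow_mul, pow_two]
  exact h

/-- the coefficient of `1` in a square of a nilpotent element vanishes -/
theorem coeff_one_sq {n : ℕ} (hn : Odd n) (hexp : ∀ g : G, g ^ (2 * n) = 1)
    {u : MonoidAlgebra k G} (hu : IsNilpotent u) : (u * u).coeff 1 = 0 := by
  classical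
  have h1 := sum_sq u (fun g => if g = 1 then 1 else 0) fun g a => by simp
  simp only [mul_ite, mul_one, mul_zero, Finset.sum_ite_eq', Finset.mem_univ, if_true] at h1
  have hrp : ∀ g : G, rp n (rp n g) = rp n g := fun g => by
    obtain ⟨j, hj⟩ := hn
    simp only [rp, ← pow_mul]
    rw [show (n + 1) * (n + 1) = (n + 1) + (2 * n) * (j + 1) by subst hj; ring, pow_add, pow_mul,
      hexp, one_pow, mul_one]
  have hsq : ∀ g : G, g * g = 1 ↔ rp n g = 1 := fun g => by
    obtain ⟨j, hj⟩ := hn
    refine ⟨fun h => ?_, fun h => ?_⟩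
    · rw [rp, hj, show 2 * j + 1 + 1 = 2 * (j + 1) by ring, pow_mul, pow_two, h, one_pow]
    · have h2 : (g ^ (n + 1)) ^ 2 = g * g * g ^ (2 * n) := by
        rw [← pow_two, ← pow_mul, ← pow_add]; congr 1; ring
      rw [show g ^ (n + 1) = 1 from h, one_pow, hexp, mul_one] at h2
      exact h2.symm
  have h2 := sum_nilpotent hn hu (fun g => if rp n g = 1 then 1 else 0)
    (fun g a => by simp only [rp_conj, conj_eq_one_iff]) fun g => by simp only [hrp]
  rw [h1]
  have h3 := congrArg (· ^ 2) h2
  simp only [sum_pow_char 2, zero_pow two_ne_zero] at h3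
  refine (Finset.sum_congr rfl fun g _ => ?_).trans h3
  simp only [hsq]
  split_ifs <;> simp

end Nilpotent

end CfsgLib.SelfDualEven
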